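import Cfsg.Agent.Lib.Blocks.PermTraceTwist
import Cfsg.Agent.Lib.Blocks.Real
import Cfsg.Agent.Lib.Blocks.RegularCriterion
import Cfsg.Agent.Lib.Char.Galois

/-!
A 2-block stable under a power map of order two contains a character fixed by it.
-/

set_option linter.unusedSectionVars false
set_option linter.style.haveILetI false

namespace Cfsg.Agent.S4523Lib

open Cfsg Cfsg.Agent.Blocks Cfsg.Agent.Blocks.Orbit MonoidAlgebra
open scoped ComplexConjugate

universe u

variable {G : Type u} [Group G] [Fintype G] {M : Ideal AlgInt}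

/-- The data of a power map of order two. -/
structure Pw (G : Type u) [Group G] where
  k : ℕ
  cop : k.Coprime (Nat.card G)
  invol : ∀ g : G, (g ^ k) ^ k = g

variable (w : Pw G)

/-- The power map as a permutation. -/
def Pw.perm : Equiv.Perm G where
  toFun g := g ^ w.k
  invFun g := g ^ w.k
  left_inv := w.invol
  right_inv := w.invol

@[simp] theorem Pw.perm_apply (g : G) : w.perm g = g ^ w.k := rfl

/-- The character composed with the power map. -/
noncomputable def Pw.irr (χ : IrrCharacter G) : IrrCharacter G :=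
  ⟨fun g => (χ : G → ℂ) (g ^ w.k), Cfsg.Agent.CharGalois.IsIrrCharacter.powMap χ.2 w.cop⟩

@[simp] theorem Pw.irr_apply (χ : IrrCharacter G) (g : G) :
    (w.irr χ : G → ℂ) g = (χ : G → ℂ) (g ^ w.k) := rfl

theorem Pw.irr_one (χ : IrrCharacter G) : (w.irr χ : G → ℂ) 1 = (χ : G → ℂ) 1 := by simp

theorem Pw.irr_irr (χ : IrrCharacter G) : w.irr (w.irr χ) = χ :=
  Subtype.ext (funext fun g => by simp [w.invol])

theorem Pw.isConj {a b : G} : IsConj (a ^ w.k) b ↔ IsConj a (b ^ w.k) :=
  ⟨fun h => by simpa [w.invol] using h.pow w.k, fun h => by simpa [w.invol] using h.pow w.k⟩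

section

variable {R : Type*} [CommRing R]

/-- A group algebra element composed with the power map. -/
noncomputable def Pw.elt (x : MonoidAlgebra R G) : MonoidAlgebra R G :=
  gaOfFun fun g => x.coeff (g ^ w.k)

@[simp] theorem Pw.coeff_elt (x : MonoidAlgebra R G) (g : G) :
    (w.elt x).coeff g = x.coeff (g ^ w.k) := rfl

theorem Pw.isClassElt {x : MonoidAlgebra R G} (hx : IsClassElt x) : IsClassElt (w.elt x) :=
  fun g h => by simp only [Pw.coeff_elt, conj_pow, hx _ h]

theorem Pw.elt_classSum (g : G) : w.elt (classSum R g) = classSum R (g ^ w.k) := by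
  classical
  refine gaExt fun x => ?_
  simp only [Pw.coeff_elt, coeff_classSum]
  exact if_congr w.isConj.symm rfl rfl

end

theorem Pw.omega_elt (χ : IrrCharacter G) (x : MonoidAlgebra ℂ G) :
    omega χ (w.elt x) = omega (w.irr χ) x := by
  simp only [omega, Pw.coeff_elt, w.irr_one]
  congr 1
  exact Fintype.sum_equiv w.perm _ _ fun g => by simp [w.invol]

variable [M.IsPrime]

theorem Pw.toC_elt (x : MonoidAlgebra (locRing M) G) : toC (w.elt x) = w.elt (toC x) :=
  gaExt fun g => by simp

theorem Pw.omegaR_elt (χ : IrrCharacter G) (x : MonoidAlgebra (locRing M) G) :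
    omegaR χ (w.elt x) = omegaR (w.irr χ) x := by
  rw [omegaR, w.toC_elt, w.omega_elt]; rfl

theorem Pw.elt_mul {x y : MonoidAlgebra (locRing M) G} (hx : IsClassElt x) (hy : IsClassElt y) :
    w.elt (x * y) = w.elt x * w.elt y := by
  refine sub_eq_zero.1 (classEltR_eq_zero (IsClassElt.sub (w.isClassElt (IsClassElt.mul hx hy))
    (IsClassElt.mul (w.isClassElt hx) (w.isClassElt hy))) fun χ => ?_)
  rw [omegaR_sub, w.omegaR_elt, omegaR_mul _ hx hy, omegaR_mul _ (w.isClassElt hx) (w.isClassElt hy),
    w.omegaR_elt, w.omegaR_elt, sub_self]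

theorem Pw.elt_block (hM : IsPModular 2 M) {B : Set (IrrCharacter G)} (hB : IsPBlock M B)
    (hst : ∀ χ ∈ B, w.irr χ ∈ B) : w.elt (blockEltR M B) = blockEltR M B := by
  refine gaExt fun g => Subtype.ext ?_
  rw [Pw.coeff_elt, coeff_blockEltR hB, coeff_blockEltR hB]
  exact blockCoeff_eq_of_perm B w.irr hst (fun a _ b _ h => by simpa [w.irr_irr] using congrArg w.irr h)
    (fun χ _ => w.irr_one χ) (fun χ _ => w.irr_apply χ g)

/-- A block stable under complex conjugation is stable under the power map, if the power map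
inverts the elements of odd order. -/
theorem Pw.stable_of_conj (hM : IsPModular 2 M) (hodd : ∀ g : G, Odd (orderOf g) → g ^ w.k = g⁻¹)
    {B : Set (IrrCharacter G)} (hB : IsPBlock M B) (hc : ∀ χ ∈ B, conjIrr χ ∈ B) :
    ∀ χ ∈ B, w.irr χ ∈ B := by
  classical
  have he : w.elt (blockEltR M B) = blockEltR M B := by
    refine gaExt fun g => Subtype.ext ?_
    rw [Pw.coeff_elt, coeff_blockEltR hB, coeff_blockEltR hB]
    by_cases hg : 2 ∣ orderOf g
    · rw [blockCoeff_eq_zero_of_singular hM hB hg, blockCoeff_eq_zero_of_singular hM hB]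
      have h := orderOf_pow_dvd (x := g ^ w.k) w.k
      rw [w.invol g] at h
      exact hg.trans h
    · rw [hodd g (Nat.not_even_iff_odd.1 fun h => hg h.two_dvd)]
      exact blockCoeff_eq_of_perm B conjIrr hc conjIrr_injective.injOn
        (fun χ _ => by rw [conjIrr_apply, conj_irr_one]) (fun χ _ => by rw [conjIrr_apply, irr_inv])
  intro χ hχ
  have h := w.omegaR_elt (M := M) χ (blockEltR M B)
  rw [he, omegaR_blockEltR hB, omegaR_blockEltR hB, if_pos hχ] at h
  by_contra hn
  rw [if_neg hn] at h
  exact one_ne_zero h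

theorem classSum_congr {R : Type*} [CommRing R] {g h : G} (hgh : IsConj g h) :
    classSum R g = classSum R h := by
  classical
  refine gaExt fun x => ?_
  simp only [coeff_classSum]
  exact if_congr ⟨fun h' => hgh.symm.trans h', fun h' => hgh.trans h'⟩ rfl rfl

theorem coeff_isConj {R : Type*} [CommRing R] {x : MonoidAlgebra R G} (hx : IsClassElt x) {g h : G}
    (hgh : IsConj g h) : x.coeff g = x.coeff h := by
  obtain ⟨c, rfl⟩ := isConj_iff.1 hgh
  exact (hx g c).symm

theorem mk_out (g : G) : IsConj (ConjClasses.mk g).out g :=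
  ConjClasses.mk_eq_mk_iff_isConj.1 (Quotient.out_eq _)

/-- Every block stable under a power map of order two has a fixed member. -/
theorem Pw.exists_fixed (hM : IsPModular 2 M) {B : Set (IrrCharacter G)} (hB : IsPBlock M B)
    (hst : ∀ χ ∈ B, w.irr χ ∈ B) : ∃ χ ∈ B, ∀ g : G, (χ : G → ℂ) (g ^ w.k) = (χ : G → ℂ) g := by
  classical
  haveI : Finite (ConjClasses G) := Finite.of_surjective _ ConjClasses.mk_surjective
  haveI : Fintype (ConjClasses G) := Fintype.ofFinite _
  haveI : CharP (resField M) 2 := resField_charP hM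
  by_contra hno
  set e := blockEltR M B with he_def
  have he : IsClassElt e := isClassElt_blockEltR B
  have hee : e * e = e := blockEltR_idem hB
  have hτ : w.elt e = e := w.elt_block hM hB hst
  have hinv : Function.Involutive (fun C : ConjClasses G => ConjClasses.mk (C.out ^ w.k)) := by
    intro C
    conv_rhs => rw [← Quotient.out_eq C]
    refine ConjClasses.mk_eq_mk_iff_isConj.2 ?_
    exact ((mk_out (C.out ^ w.k)).pow w.k).trans (by rw [w.invol])
  let σ : Equiv.Perm (ConjClasses G) := hinv.toPerm _
  have hσout : ∀ C, IsConj (σ C).out (C.out ^ w.k) := fun C => mk_out _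
  let E : Matrix (ConjClasses G) (ConjClasses G) (locRing M) :=
    Matrix.of fun C D => (e * classSum (locRing M) D.out).coeff C.out
  have hc : ∀ D : ConjClasses G, IsClassElt (e * classSum (locRing M) D.out) := fun D =>
    IsClassElt.mul he (isClassElt_classSum _)
  have hτc : ∀ D : ConjClasses G,
      e * classSum (locRing M) (σ D).out = w.elt (e * classSum (locRing M) D.out) := fun D => by
    rw [w.elt_mul he (isClassElt_classSum _), hτ, w.elt_classSum, classSum_congr (hσout D)]
  have hIM : IsInvMat σ E := fun C D => by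
    simp only [E, Matrix.of_apply]
    rw [hτc D, coeff_isConj (w.isClassElt (hc D)) (hσout C), Pw.coeff_elt, w.invol]
  have hE : E * E = E := by
    ext C D
    refine congrArg Subtype.val ?_
    simp only [Matrix.mul_apply, E, Matrix.of_apply]
    have h1 : e * classSum (locRing M) D.out = ∑ L : ConjClasses G,
        (e * classSum (locRing M) D.out).coeff L.out • (e * classSum (locRing M) L.out) := by
      conv_lhs => rw [← hee, mul_assoc, classElt_eq_sum_classSum (hc D), Finset.mul_sum]
      exact Finset.sum_congr rfl fun L _ => by rw [mul_smul_comm]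
    conv_rhs => rw [h1, MonoidAlgebra.coeff_sum, Finset.sum_apply']
    refine Finset.sum_congr rfl fun L _ => ?_
    rw [MonoidAlgebra.coeff_smul, Finsupp.smul_apply, smul_eq_mul, mul_comm]
  have hσ2 : σ ^ 2 ^ 1 = 1 := by
    refine Equiv.ext fun C => ?_
    rw [pow_one, pow_two, Equiv.Perm.mul_apply, Equiv.Perm.one_apply]
    exact hinv C
  have htr := trace_perm hM hσ2 hE hIM
  -- the trace counts the fixed members
  have hzero : ((∑ C, E (σ C) C : locRing M) : ℂ) = 0 := by
    have hterm : ∀ C : ConjClasses G, (E (σ C) C : ℂ) = ∑ χ ∈ Finset.univ.filter (· ∈ B),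
        (Nat.card G : ℂ)⁻¹ * (((Subgroup.centralizer ({C.out} : Set G)).index : ℂ) *
          ((χ : G → ℂ) C.out * conj ((w.irr χ : G → ℂ) C.out))) := by
      intro C
      simp only [E, Matrix.of_apply]
      rw [coeff_isConj (hc C) (hσout C), ← coeff_toC,
        classElt_eq_sum (IsClassElt.toC (hc C)), MonoidAlgebra.coeff_sum, Finset.sum_apply',
        Finset.sum_filter]
      refine Finset.sum_congr rfl fun χ _ => ?_
      rw [MonoidAlgebra.coeff_smul, Finsupp.smul_apply, smul_eq_mul, coeff_blockElt, blockCoeff,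
        finsum_mem_singleton, show omega χ (toC (e * classSum (locRing M) C.out)) =
          omegaR χ (e * classSum (locRing M) C.out) from rfl,
        omegaR_mul χ he (isClassElt_classSum _), he_def, omegaR_blockEltR hB, omegaR_classSum,
        Pw.irr_apply]
      split_ifs
      · rw [centralChar]
        field_simp [irr_one_ne_zero χ]
      · rw [zero_mul, zero_mul]
    rw [AddSubmonoidClass.coe_finset_sum, Finset.sum_congr rfl fun C _ => hterm C, Finset.sum_comm]
    refine Finset.sum_eq_zero fun χ hχ => ?_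
    have hne : w.irr χ ≠ χ := fun h => hno ⟨χ, (Finset.mem_filter.1 hχ).2,
      fun g => congrFun (congrArg Subtype.val h) g⟩
    rw [← Cfsg.Agent.Char.classInner_irr_of_ne χ.2 (w.irr χ).2 fun h => hne (Subtype.ext h.symm),
      Cfsg.classInner, ← Finset.mul_sum]
    congr 1
    rw [← Finset.sum_fiberwise Finset.univ ConjClasses.mk
      (fun g => (χ : G → ℂ) g * conj ((w.irr χ : G → ℂ) g))]
    refine Finset.sum_congr rfl fun C _ => ?_
    have hmem : ∀ g, g ∈ Finset.univ.filter (fun g : G => ConjClasses.mk g = C) ↔ IsConj C.out g :=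
      fun g => by
        simp only [Finset.mem_filter, Finset.mem_univ, true_and]
        constructor
        · rintro rfl; exact mk_out g
        · intro h; rw [← Quotient.out_eq C]; exact ConjClasses.mk_eq_mk_iff_isConj.2 h.symm
    rw [Finset.sum_congr rfl (g := fun _ => (χ : G → ℂ) C.out * conj ((w.irr χ : G → ℂ) C.out))
      fun g hg => by rw [← irr_isConj χ ((hmem g).1 hg), ← irr_isConj (w.irr χ) ((hmem g).1 hg)],
      Finset.sum_const, nsmul_eq_mul, ← card_isConj_eq_index, Nat.card_eq_fintype_card,
      Fintype.card_subtype]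
    congr 3
    ext g
    rw [hmem]
    simp
  rw [hzero] at htr
  have hrk : (fixRes σ E).rank = 0 := by exact_mod_cast htr.symm
  have hfix : fixRes σ E = 0 := by
    by_contra hne
    have h : (fixRes σ E).mulVecLin ≠ 0 := fun h => hne (by
      ext i j
      have := congrFun (LinearMap.congr_fun h (Pi.single j 1)) i
      simpa using this)
    rw [Matrix.rank] at hrk
    exact h (LinearMap.range_eq_bot.1 (Submodule.finrank_eq_zero.1 hrk))
  -- the coefficients on the fixed classes vanish
  let a : ConjClasses G → resField M := fun C => res M (e.coeff C.out)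
  have ha : ∀ C, a (σ C) = a C := fun C => by
    simp only [a]
    rw [coeff_isConj he (hσout C), ← Pw.coeff_elt, hτ]
  have haz : ∀ C, σ C = C → a C = 0 := by
    intro C hC
    have h1 : e.coeff C.out = ∑ D : ConjClasses G, E C D * e.coeff D.out := by
      conv_lhs => rw [← hee]; rw [show e * e = e * ∑ D : ConjClasses G,
        e.coeff D.out • classSum (locRing M) D.out from by rw [← classElt_eq_sum_classSum he],
        Finset.mul_sum, MonoidAlgebra.coeff_sum, Finset.sum_apply']
      refine Finset.sum_congr rfl fun D _ => ?_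
      rw [mul_smul_comm, MonoidAlgebra.coeff_smul, Finsupp.smul_apply, smul_eq_mul]
      exact mul_comm _ _
    simp only [a, h1, map_sum, map_mul]
    refine Finset.sum_involution (fun D _ => σ D) (fun D _ => ?_) (fun D _ hne hfD => hne ?_)
      (fun _ _ => Finset.mem_univ _) (fun D _ => hinv D)
    · have h2 : E C (σ D) = E C D := by conv_rhs => rw [← hIM C D, hC]
      rw [h2, show res M (e.coeff (σ D).out) = res M (e.coeff D.out) from ha D,
        CharTwo.add_self_eq_zero]
    · have h2 : res M (E C D) = 0 := congrFun (congrFun hfix ⟨C, hC⟩) ⟨D, hfD⟩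
      rw [h2, zero_mul]
  obtain ⟨χ, hχ⟩ := isPBlock_nonempty hB
  have h1 := omegaR_blockEltR (M := M) hB χ
  rw [if_pos hχ, ← he_def, omegaR_eq_sum χ he] at h1
  let ω : ConjClasses G → resField M := fun C =>
    res M ⟨centralChar (χ : G → ℂ) C.out, centralChar_memLocalRing χ _⟩
  have hω : ∀ C, ω (σ C) = ω C := fun C => by
    simp only [ω]
    rw [res_eq_res_iff]
    show MemLocalIdeal M (centralChar (χ : G → ℂ) (σ C).out - centralChar (χ : G → ℂ) C.out)
    rw [← omegaR_classSum (M := M), ← omegaR_classSum (M := M), classSum_congr (hσout C),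
      ← w.elt_classSum, w.omegaR_elt]
    exact omegaR_congr (isPBlock_sameBlock hB (hst χ hχ) hχ) (isClassElt_classSum _)
  have hs : ∑ C, a C * ω C = 0 := by
    refine Finset.sum_involution (fun C _ => σ C) (fun C _ => ?_) (fun C _ hne hfC => hne ?_)
      (fun _ _ => Finset.mem_univ _) (fun C _ => hinv C)
    · rw [ha, hω, CharTwo.add_self_eq_zero]
    · rw [haz C hfC, zero_mul]
  simp only [a, ω, ← map_mul, ← map_sum, res_eq_zero_iff] at hs
  push_cast at hs
  rw [h1] at hs
  exact not_memLocalIdeal_one hs

/-- The principal block has a second fixed member of odd degree. -/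
theorem Pw.exists_principal_fixed (hM : IsPModular 2 M) (hev : 2 ∣ Nat.card G) :
    ∃ χ ∈ principalBlock M G, (χ : G → ℂ) ≠ (fun _ => 1) ∧
      ∀ g : G, (χ : G → ℂ) (g ^ w.k) = (χ : G → ℂ) g := by
  classical
  set B := principalBlock M G with hB_def
  have hB := isPBlock_principalBlock M G
  have hp : Char.principal G ∈ B := principal_mem_principalBlock
  have hst : ∀ χ ∈ B, w.irr χ ∈ B := fun χ hχ => fun g => by
    have h1 : ∀ ψ : IrrCharacter G, centralChar (w.irr ψ : G → ℂ) g = centralChar (ψ : G → ℂ) (g ^ w.k) :=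
      fun ψ => by
        rw [← omega_classSum, ← omega_classSum, ← w.elt_classSum, w.omega_elt]
    have h2 := h1 (Char.principal G)
    have e : (w.irr (Char.principal G) : G → ℂ) = fun _ => 1 := rfl
    rw [e] at h2
    rw [h1]
    show MemLocalIdeal M (centralChar (fun _ : G => (1 : ℂ)) g - _)
    rw [h2]
    exact hχ (g ^ w.k)
  have hdef : blockDefect 2 B = (Nat.card G).factorization 2 :=
    hB_def ▸ (by
      have h := blockDefect_eq_top_of_odd_degree hM (χ := Char.principal G) (by
        simp [charDegree, Char.principal])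
      rwa [← isPBlock_eq_blockOf hB hp] at h)
  have hs := sum_sq_factorization hM hB
  rw [hdef] at hs
  have hev' : 2 ∣ ∑ χ ∈ Finset.univ.filter (· ∈ B), charDegree (χ : G → ℂ) ^ 2 := by
    refine Nat.dvd_of_factorization_pos ?_
    rw [hs]
    have : (Nat.card G).factorization 2 ≠ 0 :=
      (Nat.prime_two.factorization_pos_of_dvd Nat.card_pos.ne' hev).ne'
    omega
  rw [← CharP.cast_eq_zero_iff (ZMod 2) 2] at hev'
  by_contra hno
  refine one_ne_zero (α := ZMod 2) ?_
  rw [← hev', Nat.cast_sum, ← Finset.add_sum_erase _ _ (Finset.mem_filter.2 ⟨Finset.mem_univ _, hp⟩)]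
  rw [Finset.sum_involution (fun χ _ => w.irr χ)]
  · simp [charDegree, Char.principal]
  · intro χ _
    rw [show charDegree (w.irr χ : G → ℂ) = charDegree (χ : G → ℂ) by simp [charDegree]]
    exact CharTwo.add_self_eq_zero _
  · intro χ hχ _ hfix
    obtain ⟨hne, hχB⟩ := Finset.mem_erase.1 hχ
    exact hno ⟨χ, (Finset.mem_filter.1 hχB).2, fun h => hne (Subtype.ext h),
      fun g => congrFun (congrArg Subtype.val hfix) g⟩
  · intro χ hχ
    obtain ⟨hne, hχB⟩ := Finset.mem_erase.1 hχ
    refine Finset.mem_erase.2 ⟨fun h => hne ?_, Finset.mem_filter.2 ⟨Finset.mem_univ _,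
      hst χ (Finset.mem_filter.1 hχB).2⟩⟩
    rw [← w.irr_irr χ, h]
    exact Subtype.ext rfl
  · intro χ _
    exact w.irr_irr χ

end Cfsg.Agent.S4523Lib
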