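import Cfsg.Agent.Lib.Transfer.Basic
import Cfsg.Agent.Lib.Transfer.CoprimeQuotient
import Cfsg.Agent.Lib.AbelCent.Good
import Cfsg.Agent.S0200
import Cfsg.Agent.S3863
import Cfsg.Agent.S0205

/-!
Odd elements inverted inside centralisers, for abelian Sylow 2-subgroups.
-/

set_option linter.unusedSectionVars false
set_option linter.style.haveILetI false

namespace Cfsg.Agent.S4523Lib

open Subgroup

universe u v

variable {G : Type u} [Group G] [Finite G]

/-- All 2-subgroups are commutative. -/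
def Ab (G : Type u) [Group G] : Prop :=
  ∀ Q : Subgroup G, IsPGroup 2 Q → ∀ a ∈ Q, ∀ b ∈ Q, a * b = b * a

/-- Some non-identity element of odd order is inverted. -/
def Inverted (G : Type u) [Group G] : Prop :=
  ∃ y t : G, y ≠ 1 ∧ Odd (orderOf y) ∧ t * y * t⁻¹ = y⁻¹

/-- No centraliser of an involution has a non-identity element of odd order inverted in it. -/
def NoReal (G : Type u) [Group G] : Prop :=
  ∀ s : G, orderOf s = 2 → ∀ y t : G, Commute s y → Commute s t → Odd (orderOf y) →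
    t * y * t⁻¹ = y⁻¹ → y = 1

theorem Ab.subgroup (h : Ab G) (H : Subgroup G) : Ab H := fun Q hQ a ha b hb =>
  Subtype.ext (h (Q.map H.subtype) (hQ.map _) a ⟨a, ha, rfl⟩ b ⟨b, hb, rfl⟩)

theorem eq_one_of_odd_pow {x : G} (ho : Odd (orderOf x)) {i : ℕ} (h : x ^ 2 ^ i = 1) : x = 1 :=
  orderOf_eq_one_iff.1 (Nat.eq_one_of_dvd_coprimes ((Nat.coprime_two_left.2 ho).pow_left i)
    (orderOf_dvd_of_pow_eq_one h) dvd_rfl)

theorem eq_one_of_inv_eq {x : G} (ho : Odd (orderOf x)) (h : x⁻¹ = x) : x = 1 :=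
  eq_one_of_odd_pow ho (i := 1) (by rw [pow_one, pow_two, mul_eq_one_iff_inv_eq, h])

theorem Inverted.two (h : Inverted G) : ∃ y t : G, y ≠ 1 ∧ Odd (orderOf y) ∧
    (∃ j : ℕ, orderOf t = 2 ^ j) ∧ t * y * t⁻¹ = y⁻¹ := by
  obtain ⟨y, t, h1, h2, h3⟩ := h
  obtain ⟨⟨s, hs, hsy⟩, -, -⟩ := S3863.result y (isConj_iff.2 ⟨t, h3⟩)
  exact ⟨y, s, h1, h2, hs, hsy⟩

/-- The preimage of a 2-group under a map with 2-group kernel is a 2-group. -/
theorem isPGroup_comap {K : Type v} [Group K] (f : G →* K) (hk : IsPGroup 2 f.ker) {Q : Subgroup K}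
    (hQ : IsPGroup 2 Q) : IsPGroup 2 (Q.comap f) :=
  hQ.comap_of_ker_isPGroup f hk

theorem exists_two_lift (D : Subgroup G) [D.Normal] (hD : IsPGroup 2 D) {q : G ⧸ D}
    (hq : ∃ j : ℕ, orderOf q = 2 ^ j) (g : G) (hg : (g : G ⧸ D) = q) :
    ∃ j : ℕ, orderOf g = 2 ^ j := by
  haveI : Fact (Nat.Prime 2) := ⟨Nat.prime_two⟩
  obtain ⟨j, hj⟩ := hq
  have h : g ^ 2 ^ j ∈ D := by
    rw [← QuotientGroup.eq_one_iff, QuotientGroup.mk_pow, hg, ← hj, pow_orderOf_eq_one]
  obtain ⟨i, hi⟩ := IsPGroup.iff_orderOf.1 hD ⟨_, h⟩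
  obtain ⟨l, -, hl⟩ := (Nat.dvd_prime_pow Nat.prime_two).1 (orderOf_dvd_of_pow_eq_one
    (show g ^ 2 ^ (j + i) = 1 by
      rw [pow_add, pow_mul, ← hi, Subgroup.orderOf_mk, pow_orderOf_eq_one]))
  exact ⟨l, hl⟩

/-- Elements of odd order in a coset of a central 2-subgroup coincide. -/
theorem odd_unique {D : Subgroup G} (hD : IsPGroup 2 D) (hc : D ≤ center G) {a b : G}
    (ha : Odd (orderOf a)) (hb : Odd (orderOf b)) (h : a⁻¹ * b ∈ D) : a = b := by
  haveI : Fact (Nat.Prime 2) := ⟨Nat.prime_two⟩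
  set d := a⁻¹ * b with hd
  have hcom : Commute a d := mem_center_iff.1 (hc h) a
  obtain ⟨i, hi⟩ := IsPGroup.iff_orderOf.1 hD ⟨d, h⟩
  rw [Subgroup.orderOf_mk] at hi
  have hb' : b = a * d := by rw [hd, mul_inv_cancel_left]
  have h1 : orderOf d ∣ orderOf a * orderOf b := by
    refine orderOf_dvd_of_pow_eq_one ?_
    have e : (a * d) ^ (orderOf a * orderOf b) = 1 := by
      rw [← hb', mul_comm, pow_mul, pow_orderOf_eq_one, one_pow]
    rwa [hcom.mul_pow, pow_mul a, pow_orderOf_eq_one, one_pow, one_mul] at e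
  have h2 : d = 1 := eq_one_of_odd_pow ((ha.mul hb).of_dvd_nat h1) (i := i) (by
    rw [← hi, pow_orderOf_eq_one])
  exact inv_mul_eq_one.1 h2

/-- An inverted odd element of the quotient by a central 2-subgroup lifts. -/
theorem lift_inverted (D : Subgroup G) [D.Normal] (hD : IsPGroup 2 D) (hc : D ≤ center G)
    {yb : G ⧸ D} (hy : Odd (orderOf yb)) (t : G) (h : (t : G ⧸ D) * yb * (t : G ⧸ D)⁻¹ = yb⁻¹) :
    ∃ y : G, (y : G ⧸ D) = yb ∧ Odd (orderOf y) ∧ t * y * t⁻¹ = y⁻¹ := by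
  obtain ⟨g, rfl⟩ := QuotientGroup.mk_surjective yb
  obtain ⟨j, m, hm, e⟩ := Nat.exists_eq_two_pow_mul_odd (n := orderOf g) (orderOf_pos g).ne'
  obtain ⟨a, ha⟩ := exists_pow_eq_self_of_coprime
    ((Nat.coprime_two_left.2 hy).pow_left j : (2 ^ j).Coprime (orderOf (g : G ⧸ D)))
  set y := g ^ (2 ^ j * a) with hy_def
  have hyq : (y : G ⧸ D) = g := by rw [hy_def, QuotientGroup.mk_pow, pow_mul]; exact ha
  have hyo : Odd (orderOf y) := hm.of_dvd_nat (orderOf_dvd_of_pow_eq_one (by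
    rw [hy_def, ← pow_mul, show 2 ^ j * a * m = 2 ^ j * m * a by ring, ← e, pow_mul,
      pow_orderOf_eq_one, one_pow]))
  refine ⟨y, hyq, hyo, odd_unique hD hc ?_ (by rwa [orderOf_inv]) ?_⟩
  · rw [show orderOf (t * y * t⁻¹) = orderOf y from (MulAut.conj t).orderOf_eq y]
    exact hyo
  · rw [← QuotientGroup.eq]
    simp only [QuotientGroup.mk_mul, QuotientGroup.mk_inv, hyq, h]

/-- Without inverted elements of odd order an abelian Sylow 2-subgroup is normal. -/
theorem two_closed (hab : Ab G) (hno : ¬ Inverted G) {x : G} (hx : ∃ j : ℕ, orderOf x = 2 ^ j) :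
    x ∈ Cfsg.pCore 2 G := by
  classical
  haveI : Fact (Nat.Prime 2) := ⟨Nat.prime_two⟩
  set R := Cfsg.pCore 2 G with hR
  have hRp : IsPGroup 2 R := PBasic.pCore_isPGroup 2 G
  haveI hRn : R.Normal := by
    haveI := PBasic.pCore_characteristic 2 G; infer_instance
  set C := centralizer (R : Set G)
  obtain ⟨j, hj⟩ := hx
  have hxC : x ∈ C := by
    have hT : IsPGroup 2 (zpowers x ⊔ R : Subgroup G) :=
      (IsPGroup.of_card (n := j) (by rw [Nat.card_zpowers, hj])).to_sup_of_normal_right hRp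
    refine mem_centralizer_iff.2 fun r hr => ?_
    exact hab _ hT r (mem_sup_right hr) x (mem_sup_left (mem_zpowers x))
  haveI : C.Normal := inferInstance
  set D : Subgroup C := R.subgroupOf C with hD
  have hDp : IsPGroup 2 D :=
    hRp.comap_of_injective C.subtype C.subtype_injective
  have hDc : D ≤ center C := fun d hd => mem_center_iff.2 fun c =>
    Subtype.ext ((mem_centralizer_iff.1 c.2) d hd).symm
  haveI : D.Normal := hRn.subgroupOf C
  by_contra hxR
  obtain ⟨l, hl⟩ : ∃ l : ℕ, orderOf ((⟨x, hxC⟩ : C) : C ⧸ D) = 2 ^ (l + 1) := by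
    obtain ⟨i, -, hi⟩ := (Nat.dvd_prime_pow Nat.prime_two).1 (show
      orderOf ((⟨x, hxC⟩ : C) : C ⧸ D) ∣ 2 ^ j from
      hj ▸ (Subgroup.orderOf_mk x hxC) ▸ orderOf_map_dvd (QuotientGroup.mk' D) _)
    rcases i with _ | i
    · rw [pow_zero, orderOf_eq_one_iff, QuotientGroup.eq_one_iff] at hi
      exact absurd hi hxR
    · exact ⟨i, hi⟩
  set s := ((⟨x, hxC⟩ : C) : C ⧸ D) ^ 2 ^ l with hs_def
  have hs : orderOf s = 2 := by
    refine orderOf_eq_prime ?_ fun h1 => ?_
    · rw [hs_def, ← pow_mul, ← pow_succ, ← hl, pow_orderOf_eq_one]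
    · have := orderOf_dvd_of_pow_eq_one h1
      rw [hl] at this
      exact absurd (Nat.le_of_dvd (by positivity) this)
        (not_le.2 (Nat.pow_lt_pow_right (by norm_num) (Nat.lt_succ_self l)))
  have hO : ∀ N : Subgroup (C ⧸ D), N.Normal → IsPGroup 2 N → s ∉ N := by
    intro N hN hNp hsN
    have hN'p : IsPGroup 2 (N.comap (QuotientGroup.mk' D)) :=
      isPGroup_comap _ (by rw [QuotientGroup.ker_mk']; exact hDp) hNp
    have hle := PBasic.le_pCore (hN.comap (QuotientGroup.mk' D)) hN'p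
    haveI := PBasic.pCore_characteristic 2 C
    haveI : ((Cfsg.pCore 2 C).map C.subtype).Normal := inferInstance
    have hle' : (Cfsg.pCore 2 C).map C.subtype ≤ R :=
      PBasic.le_pCore inferInstance ((PBasic.pCore_isPGroup 2 C).map _)
    have : ((⟨x, hxC⟩ : C) ^ 2 ^ l) ∈ D := hle' ⟨_, hle (show QuotientGroup.mk' D ((⟨x, hxC⟩ : C) ^ 2 ^ l) ∈ N by rw [map_pow]; exact hsN), rfl⟩
    rw [← QuotientGroup.eq_one_iff, QuotientGroup.mk_pow, ← hs_def] at this
    rw [this, orderOf_one] at hs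
    norm_num at hs
  obtain ⟨h, hh1, hho, hinv⟩ := S0200.result s hs hO
  obtain ⟨t, ht⟩ := QuotientGroup.mk_surjective s
  rw [← ht] at hinv
  obtain ⟨y, hy, hyo, hyi⟩ := lift_inverted D hDp hDc hho t hinv
  exact hno ⟨(y : G), (t : G), fun h1 => hh1 (by rw [← hy, OneMemClass.coe_eq_one.1 h1]; rfl),
    by rwa [Subgroup.orderOf_coe], by simpa using congrArg Subtype.val hyi⟩

theorem solvable_of_closed (hab : Ab G) (hno : ¬ Inverted G) : Group.IsSolvable G := by
  haveI : Fact (Nat.Prime 2) := ⟨Nat.prime_two⟩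
  haveI : (Cfsg.pCore 2 G).Normal := by
    haveI := PBasic.pCore_characteristic 2 G; infer_instance
  have hodd : Odd (Nat.card (G ⧸ Cfsg.pCore 2 G)) := by
    rw [← Nat.not_even_iff_odd, even_iff_two_dvd]
    intro h
    obtain ⟨q, hq⟩ := exists_prime_orderOf_dvd_card' (G := G ⧸ Cfsg.pCore 2 G) 2 h
    obtain ⟨g, rfl⟩ := QuotientGroup.mk_surjective q
    have hg : g ∈ Cfsg.pCore 2 G := two_closed hab hno
      (exists_two_lift _ (PBasic.pCore_isPGroup 2 G) ⟨1, by rw [pow_one]; exact hq⟩ g rfl)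
    rw [(QuotientGroup.eq_one_iff g).2 hg, orderOf_one] at hq
    norm_num at hq
  haveI := S0205.result hodd
  haveI : Group.IsSolvable (Cfsg.pCore 2 G) := by
    haveI := (PBasic.pCore_isPGroup 2 G).isNilpotent
    infer_instance
  exact Group.isSolvable_of_ker_le_range (Cfsg.pCore 2 G).subtype (QuotientGroup.mk' (Cfsg.pCore 2 G))
    (by rw [QuotientGroup.ker_mk', Subgroup.range_subtype])

/-- A normal 2-subgroup containing an inverting element prevents inversion. -/
theorem eq_one_of_normal_two {R : Subgroup G} [R.Normal] (hR : IsPGroup 2 R) {y t : G}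
    (ht : t ∈ R) (hy : Odd (orderOf y)) (h : t * y * t⁻¹ = y⁻¹) : y = 1 := by
  haveI : Fact (Nat.Prime 2) := ⟨Nat.prime_two⟩
  have h1 : t * y * t⁻¹ * y⁻¹ ∈ R := by
    rw [show t * y * t⁻¹ * y⁻¹ = t * (y * t⁻¹ * y⁻¹) by group]
    exact mul_mem ht (Subgroup.Normal.conj_mem inferInstance _ (inv_mem ht) y)
  rw [h, ← pow_two, inv_pow] at h1
  obtain ⟨i, hi⟩ := IsPGroup.iff_orderOf.1 hR ⟨_, inv_mem h1⟩
  rw [Subgroup.orderOf_mk, inv_inv] at hi
  refine eq_one_of_odd_pow hy (i := i + 1) ?_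
  rw [pow_succ', pow_mul, ← hi, pow_orderOf_eq_one]

theorem NoReal.not_inverted (h : NoReal G) {s : G} (hs : orderOf s = 2) :
    ¬ Inverted (centralizer ({s} : Set G)) := by
  rintro ⟨y, t, hy1, hyo, hinv⟩
  refine hy1 (Subtype.ext (h s hs y t ?_ ?_ ?_ ?_))
  · exact (mem_centralizer_singleton_iff.1 y.2).symm
  · exact (mem_centralizer_singleton_iff.1 t.2).symm
  · rwa [Subgroup.orderOf_coe]
  · simpa using congrArg Subtype.val hinv

theorem NoReal.subgroup (h : NoReal G) (H : Subgroup G) : NoReal H := fun s hs y t hy ht ho hinv =>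
  Subtype.ext (h s (by rwa [Subgroup.orderOf_coe]) y t (congrArg Subtype.val hy)
    (congrArg Subtype.val ht) (by rwa [Subgroup.orderOf_coe]) (by simpa using congrArg Subtype.val hinv))

/-- The property passes to quotients by normal subgroups of odd order. -/
theorem NoReal.quotient (hab : Ab G) (h : NoReal G) (N : Subgroup G) [N.Normal]
    (hN : Odd (Nat.card N)) : NoReal (G ⧸ N) := by
  classical
  haveI : Fact (Nat.Prime 2) := ⟨Nat.prime_two⟩
  intro sb hs yb tb hy ht hyo hinv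
  obtain ⟨s, hs2, hsb⟩ := AbelCent.exists_invol_lift (QuotientGroup.mk' N)
    (by rwa [QuotientGroup.ker_mk']) (QuotientGroup.mk'_surjective N) hs
  have hX : IsPGroup 2 (zpowers s) := IsPGroup.of_card (n := 1) (by
    rw [Nat.card_zpowers, hs2, pow_one])
  have hcen := CoprimeQuotient.centralizer_map (QuotientGroup.mk' N) (QuotientGroup.mk'_surjective N)
    (p := 2) (by rw [QuotientGroup.ker_mk']; exact Nat.coprime_two_right.2 hN) hX
  rw [MonoidHom.map_zpowers, hsb] at hcen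
  set C := centralizer ({s} : Set G) with hC
  have hCz : centralizer ((zpowers s : Subgroup G) : Set G) = C := by
    rw [hC, zpowers_eq_closure, centralizer_closure]
  rw [hCz] at hcen
  have hmem : ∀ q : G ⧸ N, Commute sb q → ∃ g ∈ C, QuotientGroup.mk' N g = q := fun q hq => by
    have : q ∈ centralizer ((zpowers sb : Subgroup (G ⧸ N)) : Set (G ⧸ N)) := by
      refine mem_centralizer_iff.2 fun z hz => ?_
      obtain ⟨i, rfl⟩ := mem_zpowers_iff.1 hz
      exact (hq.zpow_left i).eq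
    rw [hcen] at this
    exact this
  obtain ⟨⟨tw, htw, htwy⟩, -, -⟩ := S3863.result (G := centralizer ({sb} : Set (G ⧸ N)))
    ⟨yb, mem_centralizer_singleton_iff.2 hy.symm.eq⟩
    (isConj_iff.2 ⟨⟨tb, mem_centralizer_singleton_iff.2 ht.symm.eq⟩, Subtype.ext (by simpa using hinv)⟩)
  obtain ⟨g, hgC, hg⟩ := hmem (tw : G ⧸ N) (mem_centralizer_singleton_iff.1 tw.2).symm
  -- a 2-element of the centraliser over it
  obtain ⟨j, hj⟩ := htw
  obtain ⟨i, m, hm, e⟩ := Nat.exists_eq_two_pow_mul_odd (n := orderOf g) (orderOf_pos g).ne'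
  obtain ⟨a, ha⟩ := exists_pow_eq_self_of_coprime (x := (tw : G ⧸ N)) (n := m) (by
    rw [Subgroup.orderOf_coe, hj]
    exact (Nat.coprime_two_right.2 hm).pow_right j)
  set g2 := g ^ (m * a) with hg2
  have hg2C : g2 ∈ C := C.pow_mem hgC _
  have hg2q : QuotientGroup.mk' N g2 = tw := by rw [hg2, map_pow, hg, pow_mul]; exact ha
  obtain ⟨l, -, hl⟩ := (Nat.dvd_prime_pow Nat.prime_two).1 (orderOf_dvd_of_pow_eq_one
    (show g2 ^ 2 ^ i = 1 by
      rw [hg2, ← pow_mul, show m * a * 2 ^ i = 2 ^ i * m * a by ring, ← e, pow_mul,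
        pow_orderOf_eq_one, one_pow]))
  set R := Cfsg.pCore 2 C
  haveI : R.Normal := by
    haveI := PBasic.pCore_characteristic 2 C; infer_instance
  have hgR : (⟨g2, hg2C⟩ : C) ∈ R := two_closed (hab.subgroup C) (h.not_inverted hs2)
    ⟨l, by rw [Subgroup.orderOf_mk, hl]⟩
  let f : C →* centralizer ({sb} : Set (G ⧸ N)) := ((QuotientGroup.mk' N).comp C.subtype).codRestrict _ (fun c => by
    refine mem_centralizer_singleton_iff.2 ?_
    have := congrArg (QuotientGroup.mk' N) (mem_centralizer_singleton_iff.1 c.2)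
    rwa [map_mul, map_mul, hsb] at this)
  have hf : Function.Surjective f := fun q => by
    obtain ⟨c, hc, hcq⟩ := hmem (q : G ⧸ N) (mem_centralizer_singleton_iff.1 q.2).symm
    exact ⟨⟨c, hc⟩, Subtype.ext hcq⟩
  haveI : (R.map f).Normal := Subgroup.Normal.map inferInstance f hf
  have hy0 := eq_one_of_normal_two ((PBasic.pCore_isPGroup 2 C).map f) (y := (⟨yb,
    mem_centralizer_singleton_iff.2 hy.symm.eq⟩ : centralizer ({sb} : Set (G ⧸ N)))) (t := tw) ⟨_, hgR, Subtype.ext hg2q⟩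
    (by rwa [Subgroup.orderOf_mk]) htwy
  exact congrArg Subtype.val hy0

end Cfsg.Agent.S4523Lib
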