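import Cfsg.Agent.Lib.Blocks.KernelBlock
import Cfsg.Agent.Lib.Blocks.RegularCriterion
import Cfsg.Agent.Lib.Blocks.Real
import Cfsg.Agent.Lib.Char.OddIndexReal
import Cfsg.Agent.Lib.Char.Multiplicity
import Cfsg.Agent.Lib.SLBlocks.DefectZero

/-!
Real characters outside the principal 2-block.
-/

set_option linter.unusedSectionVars false
set_option linter.style.haveILetI false

namespace Cfsg.Agent.S4523Lib

open Cfsg Cfsg.Agent.Blocks MonoidAlgebra
open scoped ComplexConjugate

universe u v

variable {G : Type u} [Group G] [Fintype G] {M : Ideal AlgInt}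

/-- A real irreducible character outside the principal block. -/
def HasRealOutside (M : Ideal AlgInt) (G : Type u) [Group G] : Prop :=
  ∃ χ : IrrCharacter G, (∀ g, ((χ : G → ℂ) g).im = 0) ∧ χ ∉ principalBlock M G

theorem infl_principal {N : Subgroup G} [N.Normal] :
    Cfsg.Agent.CharX.infl N (Char.principal (G ⧸ N)) = Char.principal G :=
  Subtype.ext rfl

variable [M.IsPrime]

/-- Inflation from the quotient by a normal subgroup of odd order. -/
theorem outside_of_odd_quotient (hM : IsPModular 2 M) (N : Subgroup G) [N.Normal]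
    (hN : Odd (Nat.card N)) (h : HasRealOutside M (G ⧸ N)) : HasRealOutside M G := by
  haveI : Fintype (G ⧸ N) := Fintype.ofFinite _
  obtain ⟨χ, hre, hout⟩ := h
  refine ⟨Cfsg.Agent.CharX.infl N χ, fun g => hre _, fun hB => hout ?_⟩
  exact sameBlock_deflate hM N (fun hd => Nat.not_even_iff_odd.2 hN (even_iff_two_dvd.2 hd))
    (Char.principal (G ⧸ N)) χ (by rw [infl_principal]; exact hB)

/-- Inflation from the quotient by a central 2-subgroup. -/
theorem outside_of_central_quotient (hM : IsPModular 2 M) (D : Subgroup G) [D.Normal]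
    (hD : IsPGroup 2 D) (hc : D ≤ Subgroup.center G) (h : HasRealOutside M (G ⧸ D)) :
    HasRealOutside M G := by
  classical
  haveI : Fintype (G ⧸ D) := Fintype.ofFinite _
  obtain ⟨χ, hre, hout⟩ := h
  refine ⟨Cfsg.Agent.CharX.infl D χ, fun g => hre _, fun hB => hout ?_⟩
  refine sameBlock_of_regular hM (χ := Char.principal (G ⧸ D)) (ψ := χ) fun q hq => ?_
  obtain ⟨g, rfl⟩ := QuotientGroup.mk_surjective q
  -- an element of odd order in the coset
  obtain ⟨j, m, hm, e⟩ := Nat.exists_eq_two_pow_mul_odd (n := orderOf g) (orderOf_pos g).ne'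
  have hodd : Odd (orderOf (g : G ⧸ D)) := Nat.not_even_iff_odd.1 fun hev => hq hev.two_dvd
  obtain ⟨a, ha⟩ : ∃ a, ((g : G ⧸ D)) ^ (2 ^ j * a) = g := by
    have hcop : (2 ^ j).Coprime (orderOf (g : G ⧸ D)) := (Nat.coprime_two_left.2 hodd).pow_left j
    obtain ⟨a, ha⟩ := exists_pow_eq_self_of_coprime hcop
    exact ⟨a, by rw [pow_mul]; exact ha⟩
  set y := g ^ (2 ^ j * a) with hy_def
  have hy : (y : G ⧸ D) = g := by rw [hy_def, QuotientGroup.mk_pow]; exact ha
  have hyo : Odd (orderOf y) := by
    refine hm.of_dvd_nat (orderOf_dvd_of_pow_eq_one ?_)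
    rw [hy_def, ← pow_mul, show 2 ^ j * a * m = 2 ^ j * m * a by ring, ← e, pow_mul,
      pow_orderOf_eq_one, one_pow]
  rw [← hy]
  have hcent : Subgroup.centralizer ({y} : Set G) =
      (Subgroup.centralizer ({(y : G ⧸ D)} : Set (G ⧸ D))).comap (QuotientGroup.mk' D) := by
    ext c
    rw [Subgroup.mem_comap, Subgroup.mem_centralizer_singleton_iff,
      Subgroup.mem_centralizer_singleton_iff, QuotientGroup.mk'_apply]
    constructor
    · intro h; rw [← QuotientGroup.mk_mul, ← QuotientGroup.mk_mul, h]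
    · intro h
      have hd : y⁻¹ * (c⁻¹ * y * c) ∈ D := by
        rw [← QuotientGroup.eq_one_iff, QuotientGroup.mk_mul, QuotientGroup.mk_mul,
          QuotientGroup.mk_mul, QuotientGroup.mk_inv, QuotientGroup.mk_inv, mul_assoc _ (y : G ⧸ D),
          ← h]
        simp
      set d := y⁻¹ * (c⁻¹ * y * c) with hd_def
      have hcom : Commute y d := (Subgroup.mem_center_iff.1 (hc hd) y)
      have hcy : (y * d) ^ orderOf y = 1 := by
        rw [hd_def, mul_inv_cancel_left, show c⁻¹ * y * c = c⁻¹ * y * c⁻¹⁻¹ by rw [inv_inv],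
          conj_pow, pow_orderOf_eq_one, mul_one, mul_inv_cancel]
      rw [hcom.mul_pow, pow_orderOf_eq_one, one_mul] at hcy
      obtain ⟨i, hi⟩ := IsPGroup.iff_orderOf.1 hD ⟨d, hd⟩
      rw [← Subgroup.orderOf_coe] at hi
      have hd1 : d = 1 := by
        rw [← orderOf_eq_one_iff]
        refine Nat.eq_one_of_dvd_coprimes ((Nat.coprime_two_left.2 hyo).pow_left i)
          (dvd_of_eq hi) (orderOf_dvd_of_pow_eq_one hcy)
      rw [hd_def, inv_mul_eq_one] at hd1
      conv_lhs => arg 2; rw [hd1]
      group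
  have hidx : (Subgroup.centralizer ({y} : Set G)).index =
      (Subgroup.centralizer ({(y : G ⧸ D)} : Set (G ⧸ D))).index := by
    rw [hcent, Subgroup.index_comap_of_surjective _ (QuotientGroup.mk'_surjective D)]
  have h1 := hB y
  simp only [centralChar, hidx, Cfsg.Agent.CharX.infl_apply, QuotientGroup.mk_one] at h1 ⊢
  exact h1

/-- A normal subgroup of odd order with an element having a unique square root. -/
theorem outside_of_core (hM : IsPModular 2 M) (N : Subgroup G) [N.Normal] (hN : Odd (Nat.card N))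
    {y : G} (hy : y ∈ N) (h1 : Nat.card {s : G // s * s = y} = 1) {t : G} (ht : t ≠ 1)
    (ht2 : t * t = 1) : HasRealOutside M G := by
  classical
  by_contra hno
  have hsum := OddIndexReal.sum_nu_mul y
  have hsum1 := OddIndexReal.sum_nu_mul (1 : G)
  have heq : ∀ χ : IrrCharacter G, OddIndexReal.nu (χ : G → ℂ) * conj ((χ : G → ℂ) y) =
      OddIndexReal.nu (χ : G → ℂ) * conj ((χ : G → ℂ) 1) := fun χ => by
    rcases OddIndexReal.nu_cases χ with ⟨-, h0⟩ | ⟨hre, -⟩
    · rw [h0, zero_mul, zero_mul]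
    · have hB : χ ∈ principalBlock M G := by_contra fun h => hno ⟨χ, hre, h⟩
      rw [trivialOn_of_sameBlock hM N (fun hd => Nat.not_even_iff_odd.2 hN (even_iff_two_dvd.2 hd))
        (χ := Char.principal G) (ψ := χ) hB (fun _ _ => rfl) y hy]
  rw [Finset.sum_congr rfl fun χ _ => heq χ, hsum1, h1] at hsum
  have hc : Nat.card {s : G // s * s = 1} = 1 := by exact_mod_cast hsum
  haveI : Subsingleton {s : G // s * s = 1} := (Nat.card_eq_one_iff_unique.1 hc).1
  exact ht (congrArg Subtype.val (Subsingleton.elim (⟨t, ht2⟩ : {s : G // s * s = 1}) ⟨1, mul_one 1⟩))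

/-- A real irreducible character whose degree has full 2-part. -/
def HasRealFull (G : Type u) [Group G] : Prop :=
  ∃ χ : IrrCharacter G, (∀ g, ((χ : G → ℂ) g).im = 0) ∧
    (charDegree (χ : G → ℂ)).factorization 2 = (Nat.card G).factorization 2

theorem HasRealFull.congr {H : Type v} [Group H] (h : HasRealFull G) (e : H ≃* G) : HasRealFull H := by
  obtain ⟨χ, hre, hf⟩ := h
  refine ⟨⟨fun x => (χ : G → ℂ) (e x), Char.IsIrrCharacter.comp χ.2 e.toMonoidHom e.surjective⟩,
    fun x => hre _, ?_⟩
  rw [Nat.card_congr e.toEquiv, ← hf]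
  simp [charDegree]

/-- A character of full 2-part of the degree is outside the principal block. -/
theorem outside_of_full (hM : IsPModular 2 M) (hev : 2 ∣ Nat.card G) (h : HasRealFull G) :
    HasRealOutside M G := by
  obtain ⟨χ, hre, hf⟩ := h
  refine ⟨χ, hre, fun hB => ?_⟩
  have hs := blockOf_eq_singleton hM χ hf
  rw [← isPBlock_eq_blockOf (isPBlock_principalBlock M G) hB] at hs
  have hp : Char.principal G ∈ principalBlock M G := principal_mem_principalBlock
  rw [hs, Set.mem_singleton_iff] at hp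
  subst hp
  have := (Nat.prime_two.factorization_pos_of_dvd Nat.card_pos.ne' hev).ne'
  rw [← hf] at this
  exact this (by simp [charDegree, Char.principal])

/-- A real character of full 2-part over a normal subgroup of odd index. -/
theorem full_of_normal (K : Subgroup G) [K.Normal] (hodd : Odd K.index) (h : HasRealFull K) :
    HasRealFull G := by
  classical
  haveI : Fintype K := Fintype.ofFinite K
  obtain ⟨θ, hre, hf⟩ := h
  obtain ⟨χ, hχ, hcon⟩ := OddIndexReal.exists_real_over K hodd θ hre
  obtain ⟨e, he, -⟩ := Char.exists_ratio_dvd_index K χ.2 θ.2 hcon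
  refine ⟨χ, hχ, le_antisymm (degExp_le_card χ) ?_⟩
  have hdeg : charDegree (χ : G → ℂ) = e * charDegree (θ : K → ℂ) := by
    rw [irr_one_eq_charDegree χ, irr_one_eq_charDegree θ] at he
    exact_mod_cast he
  have hK : (Nat.card G).factorization 2 = (Nat.card K).factorization 2 := by
    rw [← Subgroup.card_mul_index K, Nat.factorization_mul Nat.card_pos.ne'
      Subgroup.index_ne_zero_of_finite, Finsupp.add_apply,
      Nat.factorization_eq_zero_of_not_dvd fun hd => Nat.not_even_iff_odd.2 hodd (even_iff_two_dvd.2 hd),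
      add_zero]
  rw [hK, ← hf, hdeg]
  refine (Nat.prime_two.pow_dvd_iff_le_factorization ?_).1 (Dvd.dvd.mul_left (Nat.ordProj_dvd _ _) e)
  rw [← hdeg]
  exact (charDegree_pos χ).ne'

/-- The Steinberg character of `SL₂` in characteristic two. -/
theorem full_psl_two (hM : IsPModular 2 M) {F : Type} [Field F] [Fintype F] {n : ℕ}
    (hF : Fintype.card F = 2 ^ n) :
    HasRealFull (Matrix.ProjectiveSpecialLinearGroup (Fin 2) F) := by
  classical
  haveI : Fact (Nat.Prime 2) := ⟨Nat.prime_two⟩
  haveI : CharP F 2 := by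
    obtain ⟨p, hp⟩ := CharP.exists F
    obtain ⟨⟨m, hm⟩, hpp, hc⟩ := FiniteField.card F p
    have h2 : p ∣ 2 ^ n := by rw [← hF, hc]; exact dvd_pow_self p hm.ne'
    rwa [← (Nat.prime_dvd_prime_iff_eq hpp Nat.prime_two).1 (hpp.dvd_of_dvd_pow h2)]
  let SL := Matrix.SpecialLinearGroup (Fin 2) F
  haveI : Fintype SL := Fintype.ofFinite _
  have hcard := SLBlocks.card_blocks_zero (n := 2) (F := F) 2 (by omega) hM
  obtain ⟨hsub, ⟨B, hB, hB0⟩⟩ := Nat.card_eq_one_iff_unique.1 hcard
  obtain ⟨χ, hχ⟩ := isPBlock_nonempty hB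
  have hfull : (charDegree (χ : SL → ℂ)).factorization 2 = (Nat.card SL).factorization 2 := by
    refine le_antisymm (degExp_le_card χ) ?_
    have h1 := degExp_ge hM hB hχ
    rw [hB0] at h1
    omega
  have hsing := blockOf_eq_singleton hM χ hfull
  have hfull' : (charDegree (conjIrr χ : SL → ℂ)).factorization 2 = (Nat.card SL).factorization 2 := by
    rw [charDegree_conjIrr, hfull]
  have hsing' := blockOf_eq_singleton hM (conjIrr χ) hfull'
  have hd : blockDefect 2 (blockOf M (conjIrr χ : SL → ℂ)) = 0 := by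
    rw [hsing', blockDefect, Set.image_singleton, csInf_singleton, hfull', Nat.sub_self]
  have hBB : blockOf M (conjIrr χ : SL → ℂ) = B :=
    congrArg Subtype.val (Subsingleton.elim
      (⟨_, isPBlock_blockOf _, hd⟩ : {B : Set (IrrCharacter SL) // IsPBlock M B ∧ blockDefect 2 B = 0})
      ⟨B, hB, hB0⟩)
  have hreal : conjIrr χ = χ := by
    have h := self_mem_blockOf (M := M) (conjIrr χ)
    rw [hBB, isPBlock_eq_blockOf hB hχ, hsing] at h
    exact h
  have hSL : HasRealFull SL := ⟨χ, fun g => Complex.conj_eq_iff_im.1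
    (congrFun (congrArg Subtype.val hreal) g), hfull⟩
  have hbij : Function.Bijective (QuotientGroup.mk' (Subgroup.center SL)) := by
    refine ⟨?_, QuotientGroup.mk'_surjective _⟩
    rw [← MonoidHom.ker_eq_bot_iff, QuotientGroup.ker_mk', eq_bot_iff]
    intro g hg
    obtain ⟨r, hr, hg'⟩ := Matrix.SpecialLinearGroup.mem_center_iff.1 hg
    rw [Fintype.card_fin] at hr
    have hr1 : r = 1 := by
      have h0 : (r - 1) ^ 2 = 0 := by
        rw [sub_sq, hr, mul_one, one_pow, show (2 : F) = 0 from CharTwo.two_eq_zero, zero_mul,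
          sub_zero, CharTwo.add_self_eq_zero]
      exact sub_eq_zero.1 (eq_zero_of_pow_eq_zero h0)
    rw [Subgroup.mem_bot]
    refine Subtype.ext ?_
    rw [← hg', hr1]
    simp
  exact HasRealFull.congr hSL (MulEquiv.ofBijective _ hbij).symm

end Cfsg.Agent.S4523Lib
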