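import Cfsg.Agent.Lib.S4523.Fixed
import Cfsg.Agent.Lib.S4523.Quot
import Cfsg.Agent.Lib.S4523.Local
import Cfsg.Agent.Lib.Blocks.Induced
import Cfsg.Agent.Lib.BrauerPairs.RealBlock
import Cfsg.Agent.Lib.CentralInter.Reduce
import Cfsg.Agent.Lib.Solvable.Fitting
import Cfsg.Agent.Lib.JanThom.PSL2Data
import Cfsg.Agent.Lib.JanThom.LGram
import Cfsg.Agent.Lib.JanThom.Torus
import Cfsg.Agent.Lib.Classical.ProjLine
import Cfsg.Agent.Lib.Classical.DicksonSolvable
import Cfsg.Agent.S3188
import Cfsg.Agent.S4593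
import Cfsg.Agent.S0494
import Cfsg.Agent.S0936

/-!
A real 2-block other than the principal one, for abelian Sylow 2-subgroups.
-/

set_option linter.unusedSectionVars false
set_option linter.style.haveILetI false

namespace Cfsg.Agent.S4523Lib

open Cfsg Cfsg.Agent.Blocks Subgroup
open scoped ComplexConjugate

universe u v

theorem NoReal.congr {G : Type u} [Group G] {H : Type v} [Group H] (h : NoReal G) (e : H ≃* G) :
    NoReal H := fun s hs y t hy ht ho hinv => e.injective (by
  rw [map_one]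
  exact h (e s) (by rw [e.orderOf_eq, hs]) (e y) (e t) (hy.map e.toMonoidHom) (ht.map e.toMonoidHom)
    (by rw [e.orderOf_eq]; exact ho) (by rw [← map_inv, ← map_mul, ← map_mul, hinv, map_inv]))

/-- In odd characteristic the linear groups without real elements in involution centralisers have
five points. -/
theorem card_eq_five {F : Type} [Field F] [Fintype F]
    (h8 : Fintype.card F % 8 = 3 ∨ Fintype.card F % 8 = 5) (h5 : 5 ≤ Fintype.card F)
    (h : NoReal (Matrix.ProjectiveSpecialLinearGroup (Fin 2) F)) : Fintype.card F = 5 := by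
  by_contra hne
  have h11 : 11 ≤ Fintype.card F := by omega
  obtain ⟨D⟩ := JanThom.exists_lData h8 h11
  haveI : Finite (Matrix.ProjectiveSpecialLinearGroup (Fin 2) F) := inferInstance
  obtain ⟨z, hz, hz1⟩ := D.exists_Zh_ne
  have hne' : Nonempty {a : Matrix.ProjectiveSpecialLinearGroup (Fin 2) F //
      a * a = 1 ∧ a ≠ 1 ∧ a * z * a⁻¹ = z⁻¹} :=
    (Nat.card_pos_iff.1 (by rw [D.inv_h z hz hz1]; have := D.h_three'; omega)).1
  obtain ⟨a, -, -, haz⟩ := hne'
  exact hz1 (h D.s (orderOf_eq_prime (by rw [pow_two]; exact D.s_sq) D.s_ne) z a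
    (D.Zh_s hz).symm (mem_centralizer_singleton_iff.1 (D.ti_h z hz hz1 a (haz ▸ inv_mem hz))).symm
    (D.odd_Zh.of_dvd_nat (Subgroup.orderOf_dvd_natCard D.Zh hz)) haz)

variable {G : Type u} [Group G] [Fintype G] {M : Ideal AlgInt} [M.IsPrime]

/-- The linear case. -/
theorem full_psl (hM : IsPModular 2 M) {F : Type} [Field F] [Fintype F]
    (hF : ((Fintype.card F % 8 = 3 ∨ Fintype.card F % 8 = 5) ∧ 5 ≤ Fintype.card F) ∨
      (∃ n : ℕ, 2 ≤ n ∧ Fintype.card F = 2 ^ n))
    (N : Subgroup G) (h : NoReal N) (e : N ≃* Matrix.ProjectiveSpecialLinearGroup (Fin 2) F) :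
    HasRealFull N := by
  classical
  rcases hF with ⟨h8, h5⟩ | ⟨n, -, hn⟩
  · have hq := card_eq_five h8 h5 (h.congr e.symm)
    haveI : Fact (Nat.Prime 2) := ⟨Nat.prime_two⟩
    let F4 := GaloisField 2 2
    haveI : Fintype F4 := Fintype.ofFinite _
    have h4 : Fintype.card F4 = 2 ^ 2 := by
      rw [← Nat.card_eq_fintype_card, GaloisField.card 2 2 two_ne_zero]
    haveI : Fintype (Matrix.ProjectiveSpecialLinearGroup (Fin 2) F4) := Fintype.ofFinite _
    haveI := Matrix.ProjectiveSpecialLinearGroup.rank_two_simple (F := F)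
      (by rw [Nat.card_eq_fintype_card, hq]; norm_num)
    haveI := Matrix.ProjectiveSpecialLinearGroup.rank_two_simple (F := F4)
      (by rw [Nat.card_eq_fintype_card, h4]; norm_num)
    have c5 := ProjLine.two_mul_card_psl (F := F)
    rw [Nat.card_eq_fintype_card (α := F), hq] at c5
    norm_num at c5
    have c4 := ProjLine.two_mul_card_psl (F := F4)
    rw [Nat.card_eq_fintype_card (α := F4), h4] at c4
    norm_num at c4
    rw [← Nat.card_eq_fintype_card] at c5 c4
    obtain ⟨a⟩ := S0494.result (G := Matrix.ProjectiveSpecialLinearGroup (Fin 2) F) (by omega)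
    obtain ⟨b⟩ := S0494.result (G := Matrix.ProjectiveSpecialLinearGroup (Fin 2) F4) (by omega)
    exact HasRealFull.congr (full_psl_two hM h4) ((e.trans a).trans b.symm)
  · haveI : Fintype (Matrix.ProjectiveSpecialLinearGroup (Fin 2) F) := Fintype.ofFinite _
    exact HasRealFull.congr (full_psl_two hM hn) e

/-- The local group has a real character outside its principal block. -/
theorem outside_of_noReal (hM : IsPModular 2 M) (hab : Ab G) (h : NoReal G) (hinv : Inverted G) :
    HasRealOutside M G := by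
  classical
  haveI : Fact (Nat.Prime 2) := ⟨Nat.prime_two⟩
  obtain ⟨y, t, hy1, hyo, ⟨j, hj⟩, hty⟩ := hinv.two
  have hev : 2 ∣ Nat.card G := by
    refine dvd_trans ?_ (orderOf_dvd_natCard t)
    rcases j with _ | j
    · rw [pow_zero, orderOf_eq_one_iff] at hj
      subst hj
      rw [one_mul, inv_one, mul_one] at hty
      exact absurd (eq_one_of_inv_eq hyo hty.symm) hy1
    · exact hj ▸ dvd_pow_self 2 j.succ_ne_zero
  obtain ⟨i, hi⟩ := exists_prime_orderOf_dvd_card' (G := G) 2 hev
  -- the centraliser of the inverted element has odd order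
  have hcy : Odd (Nat.card (centralizer ({y} : Set G))) := by
    rw [← Nat.not_even_iff_odd, even_iff_two_dvd]
    intro h2
    set X := normalizer ((zpowers y : Subgroup G) : Set G)
    have htX : t ∈ X := by
      have key : ∀ z ∈ zpowers y, t * z * t⁻¹ ∈ zpowers y := fun z hz => by
        obtain ⟨k, rfl⟩ := mem_zpowers_iff.1 hz
        rw [← conj_zpow, hty, inv_zpow]
        exact inv_mem (zpow_mem (mem_zpowers y) k)
      exact mem_normalizer_fintype key
    have hCX : centralizer ({y} : Set G) ≤ X := by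
      rw [← centralizer_closure, ← zpowers_eq_closure]
      exact centralizer_le_normalizer _
    have hTp : IsPGroup 2 ((zpowers t).subgroupOf X) :=
      (IsPGroup.of_card (n := j) (by rw [Nat.card_zpowers, hj])).comap_of_injective X.subtype
        X.subtype_injective
    obtain ⟨S, hS⟩ := hTp.exists_le_sylow
    obtain ⟨s0, hs0⟩ := exists_prime_orderOf_dvd_card' (G := centralizer ({y} : Set G)) 2 h2
    rw [← Subgroup.orderOf_coe] at hs0
    have hs0X : (s0 : G) ∈ X := hCX s0.2
    obtain ⟨S', hS'⟩ := (IsPGroup.of_card (n := 1) (G := zpowers (⟨s0, hs0X⟩ : X)) (by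
      rw [Nat.card_zpowers, Subgroup.orderOf_mk, hs0, pow_one])).exists_le_sylow
    obtain ⟨g, hg⟩ := MulAction.exists_smul_eq X S' S
    have hsS : g * ⟨s0, hs0X⟩ * g⁻¹ ∈ (S : Subgroup X) := by
      rw [← hg, Sylow.coe_subgroup_smul]
      exact ⟨_, hS' (mem_zpowers _), rfl⟩
    have htS : (⟨t, htX⟩ : X) ∈ (S : Subgroup X) := hS (mem_subgroupOf.2 (mem_zpowers t))
    set s : G := (g : G) * s0 * (g : G)⁻¹ with hs_def
    have hst : Commute s t := hab _ (S.2.map X.subtype) s ⟨_, hsS, rfl⟩ t ⟨_, htS, rfl⟩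
    have hsy : Commute s y := by
      obtain ⟨k, hk⟩ := mem_zpowers_iff.1 ((mem_normalizer_iff''.1 g.2 y).1 (mem_zpowers y))
      have h0 : Commute (s0 : G) ((g : G)⁻¹ * y * g) := hk ▸
        (show Commute (s0 : G) y from mem_centralizer_singleton_iff.1 s0.2).zpow_right k
      have h1 := h0.map (MulAut.conj (g : G)).toMonoidHom
      rw [hs_def]
      simpa [mul_assoc] using h1
    refine hy1 (h s ?_ y t hsy hst hyo hty)
    rw [hs_def, show orderOf ((g : G) * s0 * (g : G)⁻¹) = orderOf (s0 : G) from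
      (MulAut.conj (g : G)).orderOf_eq _, hs0]
  have hroot : Nat.card {s : G // s * s = y} = 1 := by
    obtain ⟨r, hr⟩ := hyo
    have hmem : ∀ s : G, s * s = y → s ∈ centralizer ({y} : Set G) := fun s hs =>
      mem_centralizer_singleton_iff.2 (by rw [← hs, mul_assoc])
    have hor : ∀ s : G, s * s = y → Odd (orderOf s) := fun s hs =>
      hcy.of_dvd_nat (Subgroup.orderOf_dvd_natCard _ (hmem s hs))
    rw [Nat.card_eq_one_iff_unique]
    refine ⟨⟨fun a b => Subtype.ext ?_⟩, ⟨y ^ (r + 1), ?_⟩⟩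
    · have hcom : ∀ s : G, s * s = y → s = y ^ (r + 1) := fun s hs => by
        have h1 : s ^ orderOf y = 1 := by
          refine eq_one_of_odd_pow ?_ (i := 1) ?_
          · exact (hor s hs).of_dvd_nat (orderOf_pow_dvd _)
          · rw [pow_one, ← pow_mul, mul_comm, pow_mul, pow_two, hs, pow_orderOf_eq_one]
        rw [hr] at h1
        rw [← hs, ← pow_two, ← pow_mul]
        calc s = s ^ (2 * r + 1) * s := by rw [h1, one_mul]
          _ = s ^ (2 * (r + 1)) := by rw [← pow_succ]; ring_nf
      rw [hcom a a.2, hcom b b.2]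
    · rw [← pow_add, show r + 1 + (r + 1) = (2 * r + 1) + 1 by ring, pow_add, ← hr,
        pow_orderOf_eq_one, one_mul, pow_one]
  by_cases hyO : y ∈ Cfsg.oddCore G
  · have hi2 : i * i = 1 := by rw [← pow_two, ← hi, pow_orderOf_eq_one]
    exact outside_of_core hM (Cfsg.oddCore G) CentralInter.odd_card_oddCore hyO hroot
      (fun h1 => by rw [h1, orderOf_one] at hi; norm_num at hi) hi2
  obtain ⟨P⟩ := (inferInstance : Nonempty (Sylow 2 G))
  have hPab : IsMulCommutative (P : Subgroup G) :=
    ⟨⟨fun a b => Subtype.ext (hab _ P.2 a a.2 b b.2)⟩⟩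
  set O := Cfsg.oddCore G with hO_def
  have hOodd : Odd (Nat.card O) := CentralInter.odd_card_oddCore
  haveI : Fintype (G ⧸ O) := Fintype.ofFinite _
  have habQ : Ab (G ⧸ O) := by
    intro Q hQ a ha b hb
    obtain ⟨R⟩ := (inferInstance : Nonempty (Sylow 2 G))
    obtain ⟨T, hT⟩ := hQ.exists_le_sylow
    have hsur := Sylow.mapSurjective_surjective (f := QuotientGroup.mk' O)
      (QuotientGroup.mk'_surjective O) 2
    obtain ⟨T', rfl⟩ := hsur T
    obtain ⟨a', ha', rfl⟩ := hT ha
    obtain ⟨b', hb', rfl⟩ := hT hb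
    rw [← map_mul, ← map_mul, hab _ T'.2 a' ha' b' hb']
  have hnr : NoReal (G ⧸ O) := h.quotient hab O hOodd
  have hcore : Cfsg.pPrimeCore 2 (G ⧸ O) = ⊥ := CentralInter.oddCore_quotient G
  have hsolC : ∀ s : G, orderOf s = 2 → Group.IsSolvable (centralizer ({s} : Set G)) := fun s hs =>
    solvable_of_closed (hab.subgroup _) (h.not_inverted hs)
  rcases S3188.result P hPab hsolC with hsol | ⟨F, _, _, hF, N, hNn, ⟨e⟩, hcN⟩
  · exfalso
    haveI := hsol
    haveI : Group.IsSolvable (G ⧸ O) := inferInstance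
    haveI := PBasic.pCore_characteristic 2 (G ⧸ O)
    have hle := FittingCores.centralizer_pCore_le (G := G ⧸ O) Nat.prime_two hcore
    have hp : IsPGroup 2 (zpowers (t : G ⧸ O) ⊔ Cfsg.pCore 2 (G ⧸ O) : Subgroup (G ⧸ O)) := by
      refine IsPGroup.to_sup_of_normal_right ?_ (PBasic.pCore_isPGroup 2 _)
      obtain ⟨l, -, hl⟩ := (Nat.dvd_prime_pow Nat.prime_two).1 (show
        orderOf (t : G ⧸ O) ∣ 2 ^ j from hj ▸ orderOf_map_dvd (QuotientGroup.mk' O) t)
      exact IsPGroup.of_card (n := l) (by rw [Nat.card_zpowers, hl])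
    have htR : (t : G ⧸ O) ∈ Cfsg.pCore 2 (G ⧸ O) := hle (mem_centralizer_iff.2 fun r hr =>
      habQ _ hp r (mem_sup_right hr) (t : G ⧸ O) (mem_sup_left (mem_zpowers _)))
    refine hyO ((QuotientGroup.eq_one_iff y).1 (eq_one_of_normal_two (PBasic.pCore_isPGroup 2 _) htR
      (hyo.of_dvd_nat (orderOf_map_dvd (QuotientGroup.mk' O) y)) ?_))
    rw [← QuotientGroup.mk_inv, ← QuotientGroup.mk_inv, ← QuotientGroup.mk_mul,
      ← QuotientGroup.mk_mul, hty]
  · haveI := hNn
    haveI : Fintype N := Fintype.ofFinite N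
    have h4q : 4 ≤ Nat.card F := by
      rw [Nat.card_eq_fintype_card]
      rcases hF with ⟨-, h5⟩ | ⟨n, hn, hq⟩
      · omega
      · rw [hq]; exact (show 4 = 2 ^ 2 from rfl) ▸ Nat.pow_le_pow_right two_pos hn
    haveI := Matrix.ProjectiveSpecialLinearGroup.rank_two_simple (F := F) h4q
    haveI : Nontrivial N := e.toEquiv.nontrivial
    haveI : IsSimpleGroup N := IsSimpleGroup.isSimpleGroup_of_surjective e.symm.toMonoidHom e.symm.surjective
    have hNcomm : ¬ IsMulCommutative N := by
      intro hc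
      refine Dickson.not_isSolvable_psl (F := F) h4q ?_
      haveI : Group.IsSolvable N := Group.isSolvable_of_comm fun a b => hc.is_comm.comm a b
      exact Group.isSolvable_of_surjective (f := e.toMonoidHom) e.surjective
    have hidx : Odd N.index := by
      obtain ⟨P0⟩ := (inferInstance : Nonempty (Sylow 2 N))
      obtain ⟨S, hS0⟩ := (P0.2.map N.subtype).exists_le_sylow
      have hZ : Subgroup.center N = ⊥ := by
        rcases (inferInstance : (Subgroup.center N).Normal).eq_bot_or_eq_top with hb | ht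
        · exact hb
        · exact absurd ⟨⟨fun a b => (mem_center_iff.1 (ht ▸ mem_top a) b).symm⟩⟩ hNcomm
      have hcN' : Cfsg.pPrimeCore 2 N = ⊥ := by
        haveI : (Cfsg.pPrimeCore 2 N).Normal := inferInstance
        rcases (inferInstance : (Cfsg.pPrimeCore 2 N).Normal).eq_bot_or_eq_top with hb | ht
        · exact hb
        · exfalso
          have ho := CentralInter.odd_card_oddCore (G := N)
          change Odd (Nat.card (Cfsg.pPrimeCore 2 N)) at ho
          rw [ht, Subgroup.card_top] at ho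
          haveI := S0205.result ho
          exact Dickson.not_isSolvable_psl (F := F) h4q
            (Group.isSolvable_of_surjective (f := e.toMonoidHom) e.surjective)
      have hSN : (S : Subgroup (G ⧸ O)) ≤ N := by
        intro x hx
        have hP0ab : IsMulCommutative (P0 : Subgroup N) :=
          ⟨⟨fun a b => Subtype.ext ((habQ.subgroup N) _ P0.2 a a.2 b b.2)⟩⟩
        let α : MulAut N := MulAut.conjNormal x
        obtain ⟨l, hl⟩ := IsPGroup.iff_orderOf.1 S.2 ⟨x, hx⟩
        obtain ⟨g, hg⟩ := S4593.result hZ hcN' P0 hP0ab α (by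
          obtain ⟨r, -, hr⟩ := (Nat.dvd_prime_pow Nat.prime_two).1 (show orderOf α ∣ 2 ^ l from
            hl ▸ (Subgroup.orderOf_mk x hx).symm ▸
              orderOf_map_dvd (MulAut.conjNormal (H := N)) x)
          exact ⟨r, hr⟩) (fun z hz => by
          refine Subtype.ext ?_
          rw [MulAut.conjNormal_apply, habQ _ S.2 x hx z (hS0 ⟨z, hz, rfl⟩), mul_inv_cancel_right])
        have hmem : (g : G ⧸ O)⁻¹ * x ∈ centralizer (N : Set (G ⧸ O)) := by
          refine mem_centralizer_iff.2 fun z hz => ?_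
          have := congrArg Subtype.val (hg ⟨z, hz⟩)
          rw [MulAut.conjNormal_apply, coe_mul, coe_mul, coe_inv] at this
          calc z * ((g : G ⧸ O)⁻¹ * x) = (g : G ⧸ O)⁻¹ * ((g : G ⧸ O) * z * (g : G ⧸ O)⁻¹) * x := by group
            _ = (g : G ⧸ O)⁻¹ * (x * z * x⁻¹) * x := by rw [← this]
            _ = (g : G ⧸ O)⁻¹ * x * z := by group
        rw [hcN, mem_bot, inv_mul_eq_one] at hmem
        exact hmem ▸ g.2
      rw [← Nat.not_even_iff_odd, even_iff_two_dvd]
      exact fun h2 => S.not_dvd_index (h2.trans (Subgroup.index_dvd_of_le hSN))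
    have hfull := full_of_normal N hidx (full_psl hM hF N (hnr.subgroup N) e)
    have hev' : 2 ∣ Nat.card (G ⧸ O) := by
      have h1 := Subgroup.card_mul_index O
      rw [← h1] at hev
      exact ((Nat.Prime.dvd_mul Nat.prime_two).1 hev).resolve_left fun h2 =>
        Nat.not_even_iff_odd.2 hOodd (even_iff_two_dvd.2 h2)
    exact outside_of_odd_quotient hM O hOodd (outside_of_full hM hev' hfull)

/-- A real block other than the principal one. -/
theorem exists_real_block (hM : IsPModular 2 M) (hab : Ab G) (hinv : Inverted G) :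
    ∃ B : Set (IrrCharacter G), IsPBlock M B ∧ (∀ χ ∈ B, conjIrr χ ∈ B) ∧
      B ≠ principalBlock M G := by
  classical
  haveI : Fact (Nat.Prime 2) := ⟨Nat.prime_two⟩
  haveI : Finite (Subgroup G) := Finite.of_injective (fun H => (H : Set G)) SetLike.coe_injective
  let Ok : Set (Subgroup G) := {D | IsPGroup 2 D ∧ Inverted (centralizer (D : Set G))}
  have hne : Ok.Nonempty := by
    refine ⟨⊥, IsPGroup.of_bot, ?_⟩
    obtain ⟨y, t, hy1, hyo, hty⟩ := hinv
    have hall : ∀ g : G, g ∈ centralizer ((⊥ : Subgroup G) : Set G) := fun g =>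
      mem_centralizer_iff.2 fun x hx => by rw [mem_bot.1 hx, one_mul, mul_one]
    exact ⟨⟨y, hall y⟩, ⟨t, hall t⟩, fun h1 => hy1 (congrArg Subtype.val h1),
      by rwa [Subgroup.orderOf_mk], Subtype.ext hty⟩
  obtain ⟨D, ⟨hDp, hDinv⟩, hmax⟩ := (Set.toFinite Ok).exists_maximal hne
  set C := centralizer (D : Set G) with hC
  haveI : Fintype C := Fintype.ofFinite C
  have hDC : D ≤ C := fun d hd => mem_centralizer_iff.2 fun x hx => hab D hDp x hx d hd
  set D' : Subgroup C := D.subgroupOf C with hD'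
  have hD'c : D' ≤ center C := fun d hd => mem_center_iff.2 fun c =>
    Subtype.ext ((mem_centralizer_iff.1 c.2) d hd).symm
  haveI : D'.Normal := ⟨fun d hd c => by
    rw [(mem_center_iff.1 (hD'c hd)) c, mul_inv_cancel_right]; exact hd⟩
  have hD'p : IsPGroup 2 D' := hDp.comap_of_injective C.subtype C.subtype_injective
  haveI : Fintype (C ⧸ D') := Fintype.ofFinite _
  have habQ : Ab (C ⧸ D') := by
    intro Q hQ a ha b hb
    obtain ⟨a', rfl⟩ := QuotientGroup.mk_surjective a
    obtain ⟨b', rfl⟩ := QuotientGroup.mk_surjective b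
    rw [← QuotientGroup.mk_mul, ← QuotientGroup.mk_mul, (hab.subgroup C) _ (isPGroup_comap
      (QuotientGroup.mk' D') (by rw [QuotientGroup.ker_mk']; exact hD'p) hQ) a' ha b' hb]
  have hinvQ : Inverted (C ⧸ D') := by
    obtain ⟨y, t, hy1, hyo, hty⟩ := hDinv
    refine ⟨(y : C ⧸ D'), (t : C ⧸ D'), fun h1 => hy1 ?_,
      hyo.of_dvd_nat (orderOf_map_dvd (QuotientGroup.mk' D') y), ?_⟩
    · exact odd_unique hD'p hD'c hyo (by rw [orderOf_one]; exact odd_one)
        (by rw [mul_one]; exact inv_mem ((QuotientGroup.eq_one_iff y).1 h1))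
    · rw [← QuotientGroup.mk_inv, ← QuotientGroup.mk_inv, ← QuotientGroup.mk_mul,
        ← QuotientGroup.mk_mul, hty]
  have hnr : NoReal (C ⧸ D') := by
    intro s hs y t hsy hst hyo hty
    by_contra hy1
    obtain ⟨⟨tw, htw, htwy⟩, -, -⟩ := S3863.result (G := centralizer ({s} : Set (C ⧸ D')))
      ⟨y, mem_centralizer_singleton_iff.2 hsy.symm.eq⟩
      (isConj_iff.2 ⟨⟨t, mem_centralizer_singleton_iff.2 hst.symm.eq⟩, Subtype.ext (by simpa using hty)⟩)
    have htwy' : (tw : C ⧸ D') * y * (tw : C ⧸ D')⁻¹ = y⁻¹ := by simpa using congrArg Subtype.val htwy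
    obtain ⟨s0, hs0⟩ := QuotientGroup.mk_surjective s
    obtain ⟨t0, ht0⟩ := QuotientGroup.mk_surjective (tw : C ⧸ D')
    obtain ⟨y0, hy0, hy0o, hy0i⟩ := lift_inverted D' hD'p hD'c hyo t0 (by rw [ht0]; exact htwy')
    -- the larger 2-subgroup
    set E : Subgroup C := (zpowers s).comap (QuotientGroup.mk' D') with hE
    have hEp : IsPGroup 2 E := isPGroup_comap _ (by rw [QuotientGroup.ker_mk']; exact hD'p)
      (IsPGroup.of_card (n := 1) (by rw [Nat.card_zpowers, hs, pow_one]))
    have hs0E : s0 ∈ E := by rw [hE, mem_comap, QuotientGroup.mk'_apply, hs0]; exact mem_zpowers s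
    have hD'E : D' ≤ E := fun d hd => by
      rw [hE, mem_comap, QuotientGroup.mk'_apply, (QuotientGroup.eq_one_iff d).2 hd]
      exact one_mem _
    have hyc : ∀ x ∈ E, Commute x y0 := by
      intro x hx
      obtain ⟨k, hk⟩ := mem_zpowers_iff.1 (show QuotientGroup.mk' D' x ∈ zpowers s from hx)
      refine (mul_inv_eq_iff_eq_mul.1 (odd_unique hD'p hD'c ?_ hy0o ?_))
      · rw [show orderOf (x * y0 * x⁻¹) = orderOf y0 from (MulAut.conj x).orderOf_eq y0]
        exact hy0o
      · rw [← QuotientGroup.eq]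
        simp only [QuotientGroup.mk'_apply] at hk
        rw [QuotientGroup.mk_mul, QuotientGroup.mk_mul, QuotientGroup.mk_inv, hy0, ← hk,
          (hsy.zpow_left k).eq, mul_inv_cancel_right]
    have htc : ∀ x ∈ E, Commute x t0 := by
      intro x hx
      set T : Subgroup C := (zpowers s ⊔ zpowers (tw : C ⧸ D')).comap (QuotientGroup.mk' D')
      obtain ⟨l, hl⟩ := htw
      have hT : IsPGroup 2 T := by
        refine isPGroup_comap _ (by rw [QuotientGroup.ker_mk']; exact hD'p) ?_
        refine IsPGroup.to_sup_of_normal_right' (IsPGroup.of_card (n := 1) (by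
          rw [Nat.card_zpowers, hs, pow_one])) (IsPGroup.of_card (n := l) (by
          rw [Nat.card_zpowers, Subgroup.orderOf_coe, hl])) ?_
        intro z hz
        obtain ⟨k, rfl⟩ := mem_zpowers_iff.1 hz
        refine centralizer_le_normalizer _ (mem_centralizer_iff.2 fun w hw => ?_)
        obtain ⟨m, rfl⟩ := mem_zpowers_iff.1 hw
        exact (((show Commute s (tw : C ⧸ D') from (mem_centralizer_singleton_iff.1 tw.2).symm).zpow_left k).zpow_right m).symm.eq
      refine (hab.subgroup C) T hT x ?_ t0 ?_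
      · show QuotientGroup.mk' D' x ∈ zpowers s ⊔ zpowers (tw : C ⧸ D')
        exact mem_sup_left (show QuotientGroup.mk' D' x ∈ zpowers s from hx)
      · show QuotientGroup.mk' D' t0 ∈ zpowers s ⊔ zpowers (tw : C ⧸ D')
        rw [QuotientGroup.mk'_apply, ht0]
        exact mem_sup_right (mem_zpowers _)
    have hmem : ∀ c : C, (∀ x ∈ E, Commute x c) → (c : G) ∈ centralizer ((E.map C.subtype : Subgroup G) : Set G) :=
      fun c hc => mem_centralizer_iff.2 (by rintro _ ⟨x, hx, rfl⟩; exact congrArg Subtype.val (hc x hx).eq)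
    have hOk : E.map C.subtype ∈ Ok := ⟨hEp.map _, ⟨(y0 : G), hmem y0 hyc⟩, ⟨(t0 : G), hmem t0 htc⟩,
      fun h1 => hy1 (by
        have : y0 = 1 := Subtype.ext (congrArg Subtype.val h1 : ((y0 : G) = (1 : G)))
        rw [← hy0, this, QuotientGroup.mk_one]),
      by rwa [Subgroup.orderOf_mk, Subgroup.orderOf_coe],
      Subtype.ext (congrArg Subtype.val hy0i :)⟩
    have hle : D ≤ E.map C.subtype := fun d hd => ⟨⟨d, hDC hd⟩, hD'E (mem_subgroupOf.2 hd), rfl⟩
    have hin : (s0 : G) ∈ D := hmax hOk hle ⟨s0, hs0E, rfl⟩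
    rw [← hs0, (QuotientGroup.eq_one_iff s0).2 (mem_subgroupOf.2 hin), orderOf_one] at hs
    norm_num at hs
  obtain ⟨ξ, hξre, hξout⟩ := outside_of_central_quotient hM D' hD'p hD'c
    (outside_of_noReal (M := M) hM habQ hnr hinvQ)
  set b := blockOf M (ξ : C → ℂ) with hb_def
  have hb : IsPBlock M b := isPBlock_blockOf ξ
  have hξb : ξ ∈ b := self_mem_blockOf ξ
  obtain ⟨B, hB⟩ := exists_isInducedBlock hM hDp hDC le_rfl (centralizer_le_normalizer _) hb
  refine ⟨B, hB.2.1, fun χ hχ => ?_, fun heq => hξout ?_⟩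
  · refine isPBlock_mem_of_sameBlock hB.2.1 hχ fun g => ?_
    rw [centralChar_conjIrr]
    have h1 := hB.2.2 ξ hξb χ hχ g
    have h2 := hB.2.2 ξ hξb χ hχ g⁻¹
    have hic : inducedCentralChar C (ξ : C → ℂ) g⁻¹ = inducedCentralChar C (ξ : C → ℂ) g := by
      rw [inducedCentralChar, inducedCentralChar, finsum_mem_eq_finite_toFinset_sum _ (Set.toFinite _),
        finsum_mem_eq_finite_toFinset_sum _ (Set.toFinite _)]
      refine Finset.sum_equiv (Equiv.inv C) (fun h => ?_) fun h _ => ?_
      · simp only [Set.Finite.mem_toFinset, Set.mem_setOf_eq, Equiv.inv_apply, Subgroup.coe_inv]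
        exact ⟨fun hh => by simpa using BrauerPairs.isConj_inv_inv hh,
          fun hh => by simpa using BrauerPairs.isConj_inv_inv hh⟩
      · rw [Equiv.inv_apply, irr_inv, Complex.conj_eq_iff_im.2 (hξre h)]
    rw [hic] at h2
    have := MemLocalIdeal.sub h2 h1
    simpa using this
  · rw [heq] at hB
    have h1 := (S0936.result 2 M hM C b ⟨_, hB⟩).1 hB
    exact h1 ▸ hξb

end Cfsg.Agent.S4523Lib
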